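import Mathlib
import Cfsg.Agent.Lib.Helper8.QDF4

set_option autoImplicit false

namespace Cfsg.Agent.Lib.Helper8

theorem zmod_half_facts (m' : ℕ) (hm' : 1 ≤ m') :
    ∃ h : ZMod (2 * m'), h + h = 0 ∧ h ≠ 0 ∧ (∀ i : ZMod (2 * m'), i + i = 0 → i = 0 ∨ i = h) ∧
      (∀ i : ZMod (2 * m'), ∃ j : ZMod (2 * m'), i = j + j ∨ i = j + j + 1) := by
  haveI : NeZero (2 * m') := ⟨by omega⟩
  refine ⟨(m' : ZMod (2 * m')), ?_, ?_, ?_, ?_⟩
  · rw [← Nat.cast_add, ← two_mul, ZMod.natCast_self]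
  · rw [Ne, ZMod.natCast_eq_zero_iff]
    intro h
    have := Nat.le_of_dvd (by omega) h
    omega
  · intro i hi
    have hv := ZMod.natCast_zmod_val i
    have hlt := ZMod.val_lt i
    rw [← hv, ← Nat.cast_add, ZMod.natCast_eq_zero_iff] at hi
    obtain ⟨c, hc⟩ := hi
    have hc2 : c < 2 := by
      by_contra hcon
      push Not at hcon
      have : 2 * m' * 2 ≤ 2 * m' * c := Nat.mul_le_mul_left _ hcon
      omega
    interval_cases c
    · left
      rw [← hv]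
      have : i.val = 0 := by omega
      rw [this, Nat.cast_zero]
    · right
      rw [← hv]
      have : i.val = m' := by omega
      rw [this]
  · intro i
    have hv := ZMod.natCast_zmod_val i
    rcases Nat.even_or_odd' i.val with ⟨q, hq | hq⟩
    · refine ⟨(q : ZMod (2 * m')), Or.inl ?_⟩
      rw [← hv, hq]; push_cast; ring
    · refine ⟨(q : ZMod (2 * m')), Or.inr ?_⟩
      rw [← hv, hq]; push_cast; ring

variable {X : Type*} [Group X]

structure DFus (S : Subgroup X) (m : ℕ) (ρ σ : ZMod m → X) (h : ZMod m) : Prop where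
  gen : ∀ s ∈ S, ∃ i, s = ρ i ∨ s = σ i
  ρS : ∀ i, ρ i ∈ S
  σS : ∀ i, σ i ∈ S
  ρρ : ∀ i j, ρ i * ρ j = ρ (i + j)
  ρσ : ∀ i j, ρ i * σ j = σ (j - i)
  σρ : ∀ i j, σ i * ρ j = σ (i + j)
  σσ : ∀ i j, σ i * σ j = ρ (j - i)
  ρ0 : ρ 0 = 1
  ρinj : ∀ i j, ρ i = ρ j → i = j
  σne : ∀ i j, σ i ≠ ρ j
  hh : h + h = 0
  h0 : h ≠ 0
  huniq : ∀ i : ZMod m, i + i = 0 → i = 0 ∨ i = h
  hpar : ∀ i : ZMod m, ∃ j : ZMod m, i = j + j ∨ i = j + j + 1

open DihedralGroup in
theorem exists_dfus (S : Subgroup X) (m' : ℕ) (hm' : 1 ≤ m') (e : S ≃* DihedralGroup (2 * m')) :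
    ∃ h : ZMod (2 * m'), DFus S (2 * m') (fun i => ((e.symm (r i) : S) : X)) (fun i => ((e.symm (sr i) : S) : X)) h := by
  obtain ⟨h, h1, h2, h3, h4⟩ := zmod_half_facts m' hm'
  refine ⟨h, ?_⟩
  refine
    { gen := ?_
      ρS := fun i => (e.symm (r i)).2
      σS := fun i => (e.symm (sr i)).2
      ρρ := ?_
      ρσ := ?_
      σρ := ?_
      σσ := ?_
      ρ0 := ?_
      ρinj := ?_
      σne := ?_
      hh := h1
      h0 := h2
      huniq := h3
      hpar := h4 }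
  · intro s hs
    rcases he : e ⟨s, hs⟩ with i | i
    · refine ⟨i, Or.inl ?_⟩
      rw [← he, MulEquiv.symm_apply_apply]
    · refine ⟨i, Or.inr ?_⟩
      rw [← he, MulEquiv.symm_apply_apply]
  · intro i j
    rw [← r_mul_r, map_mul]; rfl
  · intro i j
    rw [← r_mul_sr, map_mul]; rfl
  · intro i j
    rw [← sr_mul_r, map_mul]; rfl
  · intro i j
    rw [← sr_mul_sr, map_mul]; rfl
  · rw [r_zero, map_one]; rfl
  · intro i j hij
    have := e.symm.injective (Subtype.ext hij)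
    exact r.inj this
  · intro i j hij
    have := e.symm.injective (Subtype.ext hij)
    exact absurd this (by simp)

namespace DFus

variable {S : Subgroup X} {m : ℕ} {ρ σ : ZMod m → X} {h : ZMod m}

theorem ρ_inv (f : DFus S m ρ σ h) (i : ZMod m) : (ρ i)⁻¹ = ρ (-i) := by
  apply inv_eq_of_mul_eq_one_right
  rw [f.ρρ, add_neg_cancel, f.ρ0]

theorem σ_sq (f : DFus S m ρ σ h) (i : ZMod m) : σ i * σ i = 1 := by
  rw [f.σσ, sub_self, f.ρ0]

theorem σ_inv (f : DFus S m ρ σ h) (i : ZMod m) : (σ i)⁻¹ = σ i :=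
  inv_eq_of_mul_eq_one_right (f.σ_sq i)

theorem σ_ne_one (f : DFus S m ρ σ h) (i : ZMod m) : σ i ≠ 1 := by
  rw [← f.ρ0]; exact f.σne i 0

theorem oσ (f : DFus S m ρ σ h) (i : ZMod m) : orderOf (σ i) = 2 :=
  orderOf_eq_prime (by rw [pow_two, f.σ_sq]) (f.σ_ne_one i)

theorem zz (f : DFus S m ρ σ h) : ρ h * ρ h = 1 := by rw [f.ρρ, f.hh, f.ρ0]

theorem z_ne_one (f : DFus S m ρ σ h) : ρ h ≠ 1 := by
  rw [← f.ρ0]
  intro hc
  exact f.h0 (f.ρinj _ _ hc)

theorem oz (f : DFus S m ρ σ h) : orderOf (ρ h) = 2 :=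
  orderOf_eq_prime (by rw [pow_two, f.zz]) f.z_ne_one

theorem neg_h (f : DFus S m ρ σ h) : -h = h := by
  have := f.hh
  exact neg_eq_of_add_eq_zero_left this

theorem zcen (f : DFus S m ρ σ h) : ∀ s ∈ S, s * ρ h = ρ h * s := by
  intro s hs
  obtain ⟨i, rfl | rfl⟩ := f.gen s hs
  · rw [f.ρρ, f.ρρ, add_comm]
  · rw [f.σρ, f.ρσ, sub_eq_add_neg, f.neg_h]

theorem invol_cases (f : DFus S m ρ σ h) : ∀ g ∈ S, orderOf g = 2 → g = ρ h ∨ ∃ i, g = σ i := by
  intro g hg ho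
  obtain ⟨i, rfl | rfl⟩ := f.gen g hg
  · left
    have h1 : ρ i * ρ i = 1 := by
      have := pow_orderOf_eq_one (ρ i)
      rwa [ho, pow_two] at this
    rw [f.ρρ, ← f.ρ0] at h1
    rcases f.huniq i (f.ρinj _ _ h1) with h2 | h2
    · exfalso
      rw [h2, f.ρ0, orderOf_one] at ho
      omega
    · rw [h2]
  · exact Or.inr ⟨i, rfl⟩

theorem conj_σ (f : DFus S m ρ σ h) (i j : ZMod m) : ρ j * σ i * (ρ j)⁻¹ = σ (i - j - j) := by
  rw [f.ρ_inv, f.ρσ, f.σρ, sub_eq_add_neg (i - j)]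

theorem isConj_σ (f : DFus S m ρ σ h) (i : ZMod m) : IsConj (σ 0) (σ i) ∨ IsConj (σ 1) (σ i) := by
  obtain ⟨j, hj | hj⟩ := f.hpar i
  · left
    rw [isConj_iff]
    refine ⟨ρ (-j), ?_⟩
    rw [f.conj_σ, hj]
    congr 1; ring
  · right
    rw [isConj_iff]
    refine ⟨ρ (-j), ?_⟩
    rw [f.conj_σ, hj]
    congr 1; ring

theorem kleinFour_z_mem (f : DFus S m ρ σ h) (U : Subgroup X) (hU : U ≤ S) (hK : IsKleinFour U) :
    ρ h ∈ U := by
  -- `U` contains a nontrivial rotation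
  have hex : ∃ i, ρ i ∈ U ∧ ρ i ≠ 1 := by
    obtain ⟨a, b, ha1, hb1, hne⟩ : ∃ a b : U, a ≠ 1 ∧ b ≠ 1 ∧ a ≠ b := by
      have h4 : Nat.card U = 4 := hK.card_four
      haveI : Finite U := Nat.finite_of_card_ne_zero (by omega)
      by_contra hcon
      push Not at hcon
      have : Nat.card U ≤ 2 := by
        by_cases hex : ∃ a : U, a ≠ 1
        · obtain ⟨a, ha⟩ := hex
          have hsub : (Set.univ : Set U) ⊆ {1, a} := by
            intro b _
            by_cases hb : b = 1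
            · left; exact hb
            · right; exact (hcon a b ha hb).symm
          have := Set.ncard_le_ncard hsub (Set.toFinite _)
          rw [Set.ncard_univ] at this
          exact this.trans (Set.ncard_insert_le _ _ |>.trans (by simp))
        · push Not at hex
          have : Subsingleton U := ⟨fun a b => (hex a).trans (hex b).symm⟩
          have := Finite.card_le_one_iff_subsingleton.mpr this
          omega
      omega
    have ha1' : (a : X) ≠ 1 := fun h => ha1 (Subtype.ext h)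
    have hb1' : (b : X) ≠ 1 := fun h => hb1 (Subtype.ext h)
    obtain ⟨i, hi | hi⟩ := f.gen a (hU a.2)
    · exact ⟨i, hi ▸ a.2, hi ▸ ha1'⟩
    · obtain ⟨j, hj | hj⟩ := f.gen b (hU b.2)
      · exact ⟨j, hj ▸ b.2, hj ▸ hb1'⟩
      · refine ⟨j - i, ?_, ?_⟩
        · rw [← f.σσ, ← hi, ← hj]
          exact U.mul_mem a.2 b.2
        · rw [← f.σσ]
          intro hc
          apply hne
          apply Subtype.ext
          rw [hi, hj]
          have := f.σ_sq j
          exact mul_right_cancel (hc.trans this.symm)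
  obtain ⟨i, hi, hi1⟩ := hex
  have h1 := kleinFour_sq hK _ hi
  rw [f.ρρ, ← f.ρ0] at h1
  rcases f.huniq i (f.ρinj _ _ h1) with h2 | h2
  · exfalso
    rw [h2, f.ρ0] at hi1
    exact hi1 rfl
  · rw [← h2]; exact hi

theorem zσ_comm (f : DFus S m ρ σ h) (i : ZMod m) : ρ h * σ i = σ i * ρ h := (f.zcen _ (f.σS i)).symm

end DFus

end Cfsg.Agent.Lib.Helper8
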