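import Mathlib
import Cfsg.Agent.Lib.Helper8.WX4
import Cfsg.Agent.Lib.Helper8.WY2

set_option autoImplicit false

namespace Cfsg.Agent.Lib.Helper8

variable {G : Type*} [Group G]

theorem exists_wloc4 [Finite G] (S : Subgroup G) (hS : Cfsg.IsWreathed S) (n : ℕ)
    (hn : Nat.card S = 2 ^ (2 * n + 1)) (U : Subgroup G) (hUS : U ≤ S) (hUab : IsMulCommutative U)
    (hUcard : Nat.card U = 2 ^ (2 * n)) (Q : Subgroup G) (hQS : Q ≤ S) (eQ : Q ≃* QuaternionGroup 2) :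
    ∃ (z a xg τ s₀ c : G) (H : ℕ), WLoc S U ((Subgroup.center S).map S.subtype) z a xg τ H ∧
      WV S U ((Subgroup.center S).map S.subtype) Q (Q ⊔ (Subgroup.center S).map S.subtype) z a s₀ ∧
      WX S U ((Subgroup.center S).map S.subtype) z a c H ∧
      (∃ Y : Subgroup G, WY S U Y a xg H) ∧ 2 * H = 2 ^ n ∧ ∃ m : ℕ, 1 ≤ m ∧ H = 2 ^ m := by
  obtain ⟨k, x, y, z, h⟩ := exists_wdat hS
  rw [pow_succ'] at h
  have L := wloc_of_wdat S h
  have X := wx_of_wdat S h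
  have Yd := wy_of_wdat S h
  have hU : U = h.U.map S.subtype := by
    have h1 : U.subgroupOf S = h.U := by
      apply h.abelian_eq_U
      · refine ⟨⟨?_⟩⟩
        rintro ⟨⟨a, haS⟩, ha⟩ ⟨⟨b, hbS⟩, hb⟩
        apply Subtype.ext
        apply Subtype.ext
        have := hUab.is_comm.comm ⟨a, Subgroup.mem_subgroupOf.mp ha⟩ ⟨b, Subgroup.mem_subgroupOf.mp hb⟩
        show a * b = b * a
        exact congrArg Subtype.val this
      · rw [Nat.card_congr (Subgroup.subgroupOfEquivOfLe hUS).toEquiv, hUcard]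
        have := h.card
        rw [hn, pow_succ'] at this
        omega
    rw [← h1, Subgroup.subgroupOf_map_subtype, inf_eq_left.mpr hUS]
  have hV : (Q.subgroupOf S ⊔ Subgroup.center S).map S.subtype = Q ⊔ (Subgroup.center S).map S.subtype := by
    rw [Subgroup.map_sup, Subgroup.subgroupOf_map_subtype, inf_eq_left.mpr hQS]
  let e₀ : Q.subgroupOf S ≃* QuaternionGroup 2 := (Subgroup.subgroupOfEquivOfLe hQS).trans eQ
  have hmemU : ∀ v : S, (v : G) ∈ U ↔ v ∈ h.U := by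
    intro v
    rw [hU]
    constructor
    · rintro ⟨v', hv', he⟩
      have : v' = v := Subtype.ext he
      rwa [← this]
    · intro hv; exact ⟨v, hv, rfl⟩
  have hmemV : ∀ v : S, (v : G) ∈ Q ⊔ (Subgroup.center S).map S.subtype ↔
      v ∈ Q.subgroupOf S ⊔ Subgroup.center S := by
    intro v
    rw [← hV]
    constructor
    · rintro ⟨v', hv', he⟩
      have : v' = v := Subtype.ext he
      rwa [← this]
    · intro hv; exact ⟨v, hv, rfl⟩
  rw [← hU] at L X Yd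
  have hnk : n = k + 2 := by
    have h1 := h.card
    rw [hn] at h1
    have h2 : 2 * ((2 * (2 * 2 ^ k)) * (2 * (2 * 2 ^ k))) = 2 ^ (2 * (k + 2) + 1) := by ring
    rw [h2] at h1
    have := Nat.pow_right_injective (le_refl 2) h1
    omega
  refine ⟨_, _, _, _, ((x ^ ((2 ^ k : ℕ) : ℤ) : S) : G), _, _, L, ?_, X, ⟨_, Yd⟩, ?_, k + 1, by omega, ?_⟩
  rotate_left
  · rw [hnk]; ring
  · ring
  refine ⟨hQS, rfl, ?_, ?_, ?_, ?_, quat_exists_noncomm Q eQ, fun q hq => quat_noncentral Q eQ hq, ?_, ?_,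
    ?_, ?_, ?_⟩
  · rw [hmemV]; exact h.xH_mem_V _ e₀
  · rw [← hV]
    rintro _ ⟨v, hv, rfl⟩ hvU
    rcases h.V_inter_U _ e₀ hv ((hmemU v).mp hvU) with hc | hc
    · left; exact ⟨_, hc, rfl⟩
    · right; exact ⟨_, hc, rfl⟩
  · exact (h.quat_invol _ e₀).1
  · intro q hq
    rcases (h.quat_invol _ e₀).2 ⟨q, hQS hq⟩ hq with e1 | e1 | e1
    · left; exact congrArg Subtype.val e1
    · right; left; exact congrArg Subtype.val e1
    · right; right; exact congrArg Subtype.val e1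
  · exact (x ^ ((2 ^ k : ℕ) : ℤ) : S).2
  · rw [hmemV]; exact h.s0_notMem_V _ e₀
  · have := h.s0_sq
    have h2 : ((x ^ ((2 ^ k : ℕ) : ℤ) : S) : G) * ((x ^ ((2 ^ k : ℕ) : ℤ) : S) : G)
        = ((x ^ ((2 * 2 ^ k : ℕ) : ℤ) : S) : G) := congrArg Subtype.val this
    rw [h2, hmemV]; exact h.xH_mem_V _ e₀
  · rw [← hV]
    rintro _ ⟨v, hv, rfl⟩
    exact ⟨_, h.s0_normalizes _ e₀ hv, rfl⟩
  · obtain ⟨t, ht, htU, htt⟩ := h.exists_invol_V _ e₀
    exact ⟨t, (hmemV t).mpr ht, fun hm => htU ((hmemU t).mp hm), congrArg Subtype.val htt⟩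

end Cfsg.Agent.Lib.Helper8
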